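import Groth.Agent.Lib.QCoh.Localizing
import Mathlib.CategoryTheory.Sites.EpiMono
import Mathlib.Algebra.Homology.ShortComplex.Ab

/-!
# Closure properties of quasi-coherent modules

* `sections_injective_of_mono`, `sections_exact`: sections are left exact;
* `exists_local_lift_of_epi`: epimorphisms are locally surjective on sections;
* `sections_surjective`: on an affine open an epimorphism with quasi-coherent kernel is surjective;
* `isQCoh_kernel`, `isQCoh_cokernel`, `isQCoh_colimit`, `isQCoh_of_extension`, …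
-/

set_option autoImplicit false
set_option linter.style.haveILetI false
universe w w' u

open CategoryTheory Limits AlgebraicGeometry Opposite TopologicalSpace

namespace Groth.Agent.Lib.QCoh.Closure

open Localizing

noncomputable section

variable {X : Scheme.{u}}

/-- Sections over `U`, as a functor. -/
def sectionsFunctor (U : X.Opens) : X.Modules ⥤ AddCommGrpCat.{u} :=
  Scheme.Modules.toPresheaf X ⋙ (evaluation _ _).obj (op U)

instance sectionsFunctor_preservesZeroMorphisms (U : X.Opens) :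
    (sectionsFunctor U).PreservesZeroMorphisms where
  map_zero _ _ := rfl

instance sectionsFunctor_preservesLimits (U : X.Opens) :
    PreservesLimits (sectionsFunctor U) := by
  haveI : PreservesLimits ((evaluation (Opens X)ᵒᵖ Ab.{u}).obj (op U)) :=
    ⟨fun {_} _ ↦ inferInstance⟩
  exact comp_preservesLimits _ _

lemma sections_injective_of_mono {M N : X.Modules} (φ : M ⟶ N) [Mono φ] (U : X.Opens) :
    Function.Injective (φ.app U) := by
  have : Mono ((sectionsFunctor U).map φ) := inferInstance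
  exact (AddCommGrpCat.mono_iff_injective _).mp this

lemma sections_exact {S : ShortComplex X.Modules} (hS : S.Exact) [Mono S.f] (U : X.Opens)
    (x : Γ(S.X₂, U)) (hx : S.g.app U x = 0) : ∃ y : Γ(S.X₁, U), S.f.app U y = x :=
  (ShortComplex.ab_exact_iff _).mp
    (hS.map_of_mono_of_preservesKernel (sectionsFunctor U) inferInstance inferInstance) x hx

lemma sections_comp {S : ShortComplex X.Modules} (U : X.Opens) (y : Γ(S.X₁, U)) :
    S.g.app U (S.f.app U y) = 0 := by
  rw [← ConcreteCategory.comp_apply, ← Scheme.Modules.Hom.comp_app, S.zero]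
  rfl

section Epi

set_option backward.isDefEq.respectTransparency false in
lemma epi_toSheaf_map {M N : X.Modules} (φ : M ⟶ N) [Epi φ] :
    Epi ((SheafOfModules.toSheaf X.ringCatSheaf).map φ) := by
  let R := X.ringCatSheaf
  let a := PresheafOfModules.sheafification.{u} (R₀ := R.obj) (R := R) (𝟙 R.obj)
  let adj := PresheafOfModules.sheafificationAdjunction.{u} (R₀ := R.obj) (R := R) (𝟙 R.obj)
  let T := SheafOfModules.toSheaf.{u} R
  let ψ := (SheafOfModules.forget R ⋙ PresheafOfModules.restrictScalars (𝟙 R.obj)).map φ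
  have hnat : a.map ψ ≫ adj.counit.app N = adj.counit.app M ≫ φ := adj.counit.naturality φ
  have h1 : a.map ψ = adj.counit.app M ≫ φ ≫ inv (adj.counit.app N) := by
    rw [← Category.assoc, ← hnat, Category.assoc, IsIso.hom_inv_id, Category.comp_id]
  have : Epi φ := ‹_›
  haveI : Epi (a.map ψ) := by rw [h1]; infer_instance
  have hz : IsZero (a.obj (cokernel ψ)) :=
    (isZero_cokernel_of_epi (a.map ψ)).of_iso (PreservesCokernel.iso a ψ)
  haveI : PreservesColimit (parallelPair ψ 0) (a ⋙ T) :=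
    preservesColimit_of_natIso _ (PresheafOfModules.sheafificationCompToSheaf.{u} (𝟙 R.obj)).symm
  haveI : Epi ((a ⋙ T).map ψ) := Preadditive.epi_of_isZero_cokernel _
    ((T.map_isZero hz).of_iso (PreservesCokernel.iso (a ⋙ T) ψ).symm)
  have h2 : T.map φ = inv (T.map (adj.counit.app M)) ≫ (a ⋙ T).map ψ ≫
      T.map (adj.counit.app N) := by
    rw [IsIso.eq_inv_comp, Functor.comp_map, ← T.map_comp, ← T.map_comp, hnat]
  change Epi (T.map φ)
  rw [h2]
  infer_instance

/-- Epimorphisms of modules are locally surjective on sections. -/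
lemma exists_local_lift_of_epi {M N : X.Modules} (φ : M ⟶ N) [Epi φ] {U : X.Opens}
    (h : Γ(N, U)) {x : X} (hx : x ∈ U) :
    ∃ (V : X.Opens) (hV : V ≤ U), x ∈ V ∧ ∃ g : Γ(M, V), φ.app V g = res N hV h := by
  have := epi_toSheaf_map φ
  have hls : Sheaf.IsLocallySurjective ((SheafOfModules.toSheaf X.ringCatSheaf).map φ) :=
    (Sheaf.isLocallySurjective_iff_epi' (φ := (SheafOfModules.toSheaf X.ringCatSheaf).map φ)).mpr this
  obtain ⟨V, i, ⟨g, hg⟩, hxV⟩ := hls.imageSieve_mem h x hx
  exact ⟨V, i.le, hxV, g, hg⟩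

end Epi

section Surjective

variable {S : ShortComplex X.Modules}

/-- Local lift correction: on `W` a lift `gt` of `h` can be made to agree with the lift `g` on
`D(a)` after multiplying by a power of `a`. -/
lemma exists_corrected_lift (hS : S.Exact) [Mono S.f] {U W : X.Opens} (hWU : W ≤ U)
    {a : Γ(X, U)} (hW : Extends S.X₁ (resR hWU a)) (h : Γ(S.X₃, U))
    (g : Γ(S.X₂, X.basicOpen a)) (hg : S.g.app _ g = res S.X₃ (X.basicOpen_le a) h)
    (gt : Γ(S.X₂, W)) (hgt : S.g.app _ gt = res S.X₃ hWU h) :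
    ∃ (n : ℕ) (g' : Γ(S.X₂, W)), S.g.app _ g' = res S.X₃ hWU (a ^ n • h) ∧
      res S.X₂ (X.basicOpen_le (resR hWU a)) g' =
        res S.X₂ (basicOpen_le_of_resR hWU a) (resR (X.basicOpen_le a) a ^ n • g) := by
  obtain ⟨c, hc⟩ := sections_exact hS (X.basicOpen (resR hWU a))
    (res S.X₂ (basicOpen_le_of_resR hWU a) g - res S.X₂ (X.basicOpen_le _) gt)
    (by rw [map_sub, ← res_app, ← res_app, hg, hgt, res_res, res_res, sub_self])
  obtain ⟨n, d, hd⟩ := hW c
  refine ⟨n, resR hWU a ^ n • gt + S.f.app _ d, ?_, ?_⟩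
  · rw [map_add, sections_comp, add_zero, Scheme.Modules.Hom.app_smul, hgt, res_smul, map_pow]
  · rw [map_add, res_app, hd, Scheme.Modules.Hom.app_smul, hc, res_smul, res_smul, smul_sub,
      map_pow, map_pow, resR_resR, resR_resR]
    abel

/-- Gluing corrected lifts. -/
lemma exists_lift_pow_smul (hS : S.Exact) [Mono S.f] {U : X.Opens} {ι : Type*} [Finite ι]
    (W : ι → X.Opens) (hW : ∀ i, W i ≤ U) (hcov : U ≤ ⨆ i, W i) {a : Γ(X, U)}
    (hsep : ∀ i j, Separates S.X₁ (resR (inf_le_left.trans (hW i) : W i ⊓ W j ≤ U) a))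
    (h : Γ(S.X₃, U)) (g : Γ(S.X₂, X.basicOpen a)) (g' : ∀ i, Γ(S.X₂, W i))
    (h1 : ∀ i, S.g.app _ (g' i) = res S.X₃ (hW i) h)
    (h2 : ∀ i, res S.X₂ (X.basicOpen_le (resR (hW i) a)) (g' i) =
      res S.X₂ (basicOpen_le_of_resR (hW i) a) g) :
    ∃ (m : ℕ) (G : Γ(S.X₂, U)), S.g.app U G = a ^ m • h := by
  have key (i j : ι) : ∃ m : ℕ,
      resR (inf_le_left.trans (hW i) : W i ⊓ W j ≤ U) a ^ m •
        res S.X₂ (inf_le_left : W i ⊓ W j ≤ W i) (g' i) =
      resR (inf_le_left.trans (hW i) : W i ⊓ W j ≤ U) a ^ m •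
        res S.X₂ (inf_le_right : W i ⊓ W j ≤ W j) (g' j) := by
    obtain ⟨e, he⟩ := sections_exact hS (W i ⊓ W j)
      (res S.X₂ inf_le_left (g' i) - res S.X₂ inf_le_right (g' j))
      (by rw [map_sub, ← res_app, ← res_app, h1, h1, res_res, res_res, sub_self])
    have h3 (k : ι) (hk : W i ⊓ W j ≤ W k) :
        X.basicOpen (resR (inf_le_left.trans (hW i) : W i ⊓ W j ≤ U) a) ≤
          X.basicOpen (resR (hW k) a) := by
      refine le_trans ?_ (Scheme.basicOpen_res X a (homOfLE (hW k)).op).ge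
      exact le_inf ((X.basicOpen_le _).trans hk) (basicOpen_le_of_resR _ a)
    obtain ⟨m, hm⟩ := hsep i j e (by
      apply sections_injective_of_mono S.f
      rw [← res_app, he, map_zero, map_sub, res_res, res_res,
        ← res_res (X.basicOpen_le _) (h3 i inf_le_left),
        ← res_res (X.basicOpen_le _) (h3 j inf_le_right), h2 i, h2 j, res_res, res_res, sub_self])
    refine ⟨m, ?_⟩
    rw [← sub_eq_zero, ← smul_sub, ← he, ← Scheme.Modules.Hom.app_smul, hm, map_zero]
  choose m hm using key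
  cases nonempty_fintype ι
  obtain ⟨K, hK⟩ : ∃ K, ∀ i j, m i j ≤ K :=
    ⟨Finset.univ.sup fun i ↦ Finset.univ.sup (m i), fun i j ↦
      (Finset.le_sup (f := m i) (Finset.mem_univ j)).trans
        (Finset.le_sup (f := fun i ↦ Finset.univ.sup (m i)) (Finset.mem_univ i))⟩
  obtain ⟨G, hG, -⟩ := TopCat.Sheaf.existsUnique_gluing' ⟨_, S.X₂.isSheaf⟩ W U
    (fun i ↦ homOfLE (hW i)) hcov (fun i ↦ resR (hW i) a ^ K • g' i) (by
      intro i j
      change res S.X₂ inf_le_left _ = res S.X₂ inf_le_right _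
      simp only [res_smul, map_pow, resR_resR]
      exact pow_smul_eq_of_le (hK i j) (hm i j))
  refine ⟨K, G, ?_⟩
  refine TopCat.Sheaf.eq_of_locally_eq' ⟨_, S.X₃.isSheaf⟩ W U (fun i ↦ homOfLE (hW i)) hcov _ _
    fun i ↦ ?_
  change res S.X₃ (hW i) (S.g.app U G) = res S.X₃ (hW i) _
  rw [res_app, show res S.X₂ (hW i) G = _ from hG i, Scheme.Modules.Hom.app_smul, h1 i, res_smul,
    map_pow]

/-- On an affine open, an epimorphism whose kernel is quasi-coherent is surjective on sections. -/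
theorem sections_surjective (hS : S.ShortExact) [S.X₁.IsQuasicoherent] {U : X.Opens}
    (hU : IsAffineOpen U) : Function.Surjective (S.g.app U) := by
  haveI := hS.mono_f
  haveI := hS.epi_g
  intro h
  let I : Ideal Γ(X, U) :=
    { carrier := {r | ∃ g, S.g.app U g = r • h}
      add_mem' := by
        rintro r r' ⟨g, hg⟩ ⟨g', hg'⟩
        exact ⟨g + g', by rw [map_add, hg, hg', add_smul]⟩
      zero_mem' := ⟨0, by rw [map_zero, zero_smul]⟩
      smul_mem' := by
        rintro c r ⟨g, hg⟩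
        exact ⟨c • g, by rw [Scheme.Modules.Hom.app_smul, hg, smul_eq_mul, mul_smul]⟩ }
  suffices h1 : (1 : Γ(X, U)) ∈ I by
    obtain ⟨g, hg⟩ := h1
    exact ⟨g, by rw [hg, one_smul]⟩
  rw [← Ideal.eq_top_iff_one, ← Ideal.radical_eq_top]
  let s : Set Γ(X, U) :=
    {a | ∃ g : Γ(S.X₂, X.basicOpen a), S.g.app _ g = res S.X₃ (X.basicOpen_le a) h}
  have hcov : U ≤ ⨆ a : s, X.basicOpen a.1 := by
    intro x hx
    obtain ⟨V, hV, hxV, g, hg⟩ := exists_local_lift_of_epi S.g h hx
    obtain ⟨a, haV, hxa⟩ := hU.exists_basicOpen_le ⟨x, hxV⟩ hx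
    refine Opens.mem_iSup.mpr ⟨⟨a, res S.X₂ haV g, ?_⟩, hxa⟩
    rw [← res_app, hg, res_res]
  have hspan : Ideal.span s = ⊤ := hU.self_le_iSup_basicOpen_iff.mp hcov
  suffices hs : ∀ a ∈ s, a ∈ I.radical from eq_top_iff.mpr (hspan ▸ Ideal.span_le.mpr hs)
  rintro a ⟨g, hg⟩
  obtain ⟨t, hts, ht1⟩ := Submodule.mem_span_finite_of_mem_span
    (show (1 : Γ(X, U)) ∈ Submodule.span Γ(X, U) s from by
      rw [← Ideal.submodule_span_eq] at hspan; rw [hspan]; trivial)
  have hcov' : U ≤ ⨆ b : t, X.basicOpen b.1 :=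
    hU.self_le_iSup_basicOpen_iff.mpr ((Ideal.eq_top_iff_one _).mpr ht1)
  choose gt hgt using fun b : t ↦ hts b.2
  have hle (b : t) : X.basicOpen b.1 ≤ U := X.basicOpen_le _
  choose n g' h1 h2 using fun b : t ↦ exists_corrected_lift hS.exact (hle b)
    (localizes_of_isAffineOpen S.X₁ (hU.basicOpen b.1) _).ext' h g hg (gt b) (hgt b)
  obtain ⟨N, hN⟩ : ∃ N, ∀ b, n b ≤ N :=
    ⟨Finset.univ.sup n, fun b ↦ Finset.le_sup (Finset.mem_univ b)⟩
  obtain ⟨m, G, hG⟩ := exists_lift_pow_smul hS.exact (fun b : t ↦ X.basicOpen b.1) hle hcov'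
    (fun b c ↦ exists_pow_smul_eq_zero_of_isCompact S.X₁ (by
      rw [← Scheme.basicOpen_mul X b.1 c.1]
      exact (hU.basicOpen _).isCompact) _)
    (a ^ N • h) (resR (X.basicOpen_le a) a ^ N • g)
    (fun b ↦ resR (hle b) a ^ (N - n b) • g' b)
    (fun b ↦ by
      rw [Scheme.Modules.Hom.app_smul, h1 b, res_smul, res_smul, smul_smul, map_pow, map_pow,
        ← pow_add, Nat.sub_add_cancel (hN b)])
    (fun b ↦ by
      rw [res_smul, h2 b, res_smul, res_smul, smul_smul, map_pow, map_pow, map_pow, resR_resR,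
        resR_resR, ← pow_add, Nat.sub_add_cancel (hN b)])
  exact ⟨m + N, G, by rw [hG, smul_smul, pow_add]⟩

end Surjective

section Closure

/-- Kernel of a map from a localizing module to a separating one. -/
theorem localizes_of_exact_mono {S : ShortComplex X.Modules} (hS : S.Exact) [Mono S.f]
    {U : X.Opens} {f : Γ(X, U)} (h₂ : Localizes S.X₂ f) (h₃ : Separates S.X₃ f) :
    Localizes S.X₁ f := by
  constructor
  · intro s
    obtain ⟨n, t, ht⟩ := h₂.ext' (S.f.app _ s)
    obtain ⟨m, hm⟩ := h₃ (S.g.app U t)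
      (by rw [res_app, ht, Scheme.Modules.Hom.app_smul, sections_comp, smul_zero])
    obtain ⟨t', ht'⟩ := sections_exact hS U (f ^ m • t) (by rw [Scheme.Modules.Hom.app_smul, hm])
    refine ⟨m + n, t', sections_injective_of_mono S.f _ ?_⟩
    rw [← res_app, ht', res_smul, ht, Scheme.Modules.Hom.app_smul, smul_smul, map_pow, pow_add]
  · intro t ht
    obtain ⟨n, hn⟩ := h₂.sep (S.f.app U t) (by rw [res_app, ht, map_zero])
    refine ⟨n, sections_injective_of_mono S.f U ?_⟩
    rw [Scheme.Modules.Hom.app_smul, hn, map_zero]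

/-- The kernel in an exact sequence `0 → M₁ → M₂ → M₃` is quasi-coherent if `M₂`, `M₃` are. -/
theorem isQCoh_of_exact_mono {S : ShortComplex X.Modules} (hS : S.Exact) [Mono S.f]
    [S.X₂.IsQuasicoherent] [S.X₃.IsQuasicoherent] : S.X₁.IsQuasicoherent :=
  isQCoh_iff_forall_affine.mpr fun _ hU f ↦ localizes_of_exact_mono hS
    (localizes_of_isAffineOpen S.X₂ hU f) (localizes_of_isAffineOpen S.X₃ hU f).sep

theorem isQCoh_kernel {M N : X.Modules} [M.IsQuasicoherent] [N.IsQuasicoherent] (φ : M ⟶ N) :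
    (kernel φ).IsQuasicoherent := by
  let S := ShortComplex.mk (kernel.ι φ) φ (kernel.condition φ)
  haveI : S.X₂.IsQuasicoherent := ‹M.IsQuasicoherent›
  haveI : S.X₃.IsQuasicoherent := ‹N.IsQuasicoherent›
  haveI : Mono S.f := inferInstanceAs (Mono (kernel.ι φ))
  exact isQCoh_of_exact_mono (S := S) (S.exact_of_f_is_kernel (kernelIsKernel φ))

/-- Extensions of quasi-coherent modules are quasi-coherent. -/
theorem isQCoh_of_extension {S : ShortComplex X.Modules} (hS : S.ShortExact)
    [S.X₁.IsQuasicoherent] [S.X₃.IsQuasicoherent] : S.X₂.IsQuasicoherent := by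
  haveI := hS.mono_f
  refine isQCoh_iff_forall_affine.mpr fun U hU f ↦ ⟨fun s ↦ ?_, fun t ht ↦ ?_⟩
  · obtain ⟨n, h, hh⟩ := (localizes_of_isAffineOpen S.X₃ hU f).ext' (S.g.app _ s)
    obtain ⟨g, rfl⟩ := sections_surjective hS hU h
    obtain ⟨c, hc⟩ := sections_exact hS.exact _
      (resR (X.basicOpen_le f) f ^ n • s - res S.X₂ (X.basicOpen_le f) g)
      (by rw [map_sub, ← res_app, hh, Scheme.Modules.Hom.app_smul, sub_self])
    obtain ⟨m, d, hd⟩ := (localizes_of_isAffineOpen S.X₁ hU f).ext' c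
    refine ⟨m + n, f ^ m • g + S.f.app U d, ?_⟩
    rw [map_add, res_smul, res_app, hd, Scheme.Modules.Hom.app_smul, hc, map_pow, smul_sub,
      smul_smul, pow_add]
    abel
  · obtain ⟨n, hn⟩ := (localizes_of_isAffineOpen S.X₃ hU f).sep (S.g.app U t)
      (by rw [res_app, ht, map_zero])
    obtain ⟨c, hc⟩ := sections_exact hS.exact U (f ^ n • t)
      (by rw [Scheme.Modules.Hom.app_smul, hn])
    obtain ⟨m, hm⟩ := (localizes_of_isAffineOpen S.X₁ hU f).sep c
      (sections_injective_of_mono S.f _ (by rw [← res_app, hc, res_smul, ht, smul_zero, map_zero]))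
    refine ⟨m + n, ?_⟩
    rw [pow_add, mul_smul, ← hc, ← Scheme.Modules.Hom.app_smul, hm, map_zero]

/-- A colimit of quasi-coherent modules on `Spec R` is quasi-coherent. -/
theorem isQCoh_colimit_spec {R : CommRingCat.{u}} {J : Type w} [Category.{w'} J]
    [HasColimitsOfShape J (ModuleCat.{u} R)] {F : J ⥤ (Spec R).Modules} {c : Cocone F}
    (hc : IsColimit c) (hF : ∀ j, (F.obj j).IsQuasicoherent) : c.pt.IsQuasicoherent := by
  have hc' : ∀ j, IsIso ((tilde.adjunction (R := R)).counit.app (F.obj j)) := fun j ↦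
    (isQuasicoherent_iff_isIso_fromTildeΓ _).mp (hF j)
  let e : (F ⋙ moduleSpecΓFunctor (R := R)) ⋙ tilde.functor R ≅ F :=
    NatIso.ofComponents (fun j ↦ @asIso _ _ _ _ _ (hc' j))
      fun f ↦ (tilde.adjunction (R := R)).counit.naturality (F.map f)
  have hd := isColimitOfPreserves (tilde.functor R) (colimit.isColimit (F ⋙ moduleSpecΓFunctor (R := R)))
  exact (SheafOfModules.isQuasicoherent (Spec R).ringCatSheaf).prop_of_iso
    (IsColimit.coconePointsIsoOfNatIso hd hc e) (inferInstanceAs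
      ((tilde.functor R).obj (colimit (F ⋙ moduleSpecΓFunctor (R := R)))).IsQuasicoherent)

/-- Colimits of quasi-coherent modules are quasi-coherent. -/
theorem isQCoh_of_isColimit {J : Type w} [Category.{w'} J]
    [∀ R : CommRingCat.{u}, HasColimitsOfShape J (ModuleCat.{u} R)]
    {F : J ⥤ X.Modules} {c : Cocone F}
    (hc : IsColimit c) (hF : ∀ j, (F.obj j).IsQuasicoherent) : c.pt.IsQuasicoherent := by
  refine isQCoh_iff_forall_affine.mpr fun U hU ↦ (isQCoh_restrict_fromSpec_iff hU).mp ?_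
  exact isQCoh_colimit_spec
    (isColimitOfPreserves (Scheme.Modules.restrictFunctor hU.fromSpec) hc)
    fun j ↦ haveI := hF j; inferInstanceAs ((F.obj j).restrict hU.fromSpec).IsQuasicoherent

theorem isQCoh_colimit {J : Type u} [SmallCategory J] (F : J ⥤ X.Modules)
    (hF : ∀ j, (F.obj j).IsQuasicoherent) : (colimit F).IsQuasicoherent :=
  isQCoh_of_isColimit (colimit.isColimit F) hF

theorem isQCoh_cokernel {M N : X.Modules} [M.IsQuasicoherent] [N.IsQuasicoherent] (φ : M ⟶ N) :
    (cokernel φ).IsQuasicoherent :=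
  isQCoh_of_isColimit (colimit.isColimit (parallelPair φ 0)) fun j ↦ by
    cases j
    · exact ‹M.IsQuasicoherent›
    · exact ‹N.IsQuasicoherent›

/-- The cokernel in an exact sequence `M₁ → M₂ → M₃ → 0` is quasi-coherent if `M₁`, `M₂` are. -/
theorem isQCoh_of_exact_epi {S : ShortComplex X.Modules} (hS : S.Exact) [Epi S.g]
    [S.X₁.IsQuasicoherent] [S.X₂.IsQuasicoherent] : S.X₃.IsQuasicoherent :=
  isQCoh_of_isColimit hS.gIsCokernel fun j ↦ by
    cases j
    · exact ‹S.X₁.IsQuasicoherent›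
    · exact ‹S.X₂.IsQuasicoherent›

/-- On an affine open an epimorphism of quasi-coherent modules is surjective on sections. -/
theorem sections_surjective_of_epi {M N : X.Modules} [M.IsQuasicoherent] [N.IsQuasicoherent]
    (φ : M ⟶ N) [Epi φ] {U : X.Opens} (hU : IsAffineOpen U) : Function.Surjective (φ.app U) := by
  let S := ShortComplex.mk (kernel.ι φ) φ (kernel.condition φ)
  haveI : S.X₁.IsQuasicoherent := isQCoh_kernel φ
  have hS : S.ShortExact :=
    { exact := S.exact_of_f_is_kernel (kernelIsKernel φ)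
      mono_f := inferInstanceAs (Mono (kernel.ι φ))
      epi_g := ‹Epi φ› }
  exact sections_surjective hS hU

theorem isQCoh_biprod {M N : X.Modules} [M.IsQuasicoherent] [N.IsQuasicoherent] :
    (M ⊞ N).IsQuasicoherent :=
  isQCoh_of_extension (S := ShortComplex.mk (biprod.inl : M ⟶ M ⊞ N) biprod.snd biprod.inl_snd)
    (ShortComplex.Splitting.ofHasBinaryBiproduct M N).shortExact

end Closure

end

end Groth.Agent.Lib.QCoh.Closure
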