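import Mathlib.AlgebraicGeometry.Modules.Tilde
import Mathlib.AlgebraicGeometry.Morphisms.QuasiSeparated
import Groth.Prelude.Def_Coh

/-!
# Quasi-coherent modules: sections over basic opens are localizations

`Localizes M f` says that `Γ(M, U) → Γ(M, D(f))` is the localization at `f`, elementwise.
* `localizes_of_isAffineOpen`: quasi-coherent modules localize on affine opens;
* `localizes_of_qcqs`, `exists_pow_smul_eq_zero_of_isCompact`: the qcqs lemma;
* `isQCoh_of_forall_exists_localizes`, `isQCoh_iff_forall_affine`: the converse.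
-/

set_option autoImplicit false
universe u

open CategoryTheory Limits AlgebraicGeometry Opposite TopologicalSpace

namespace Groth.Agent.Lib.QCoh.Localizing

noncomputable section

variable {X Y : Scheme.{u}} (M : X.Modules)

/-- Restriction of sections of a module. -/
abbrev res {U V : X.Opens} (h : V ≤ U) : Γ(M, U) →+ Γ(M, V) :=
  (M.presheaf.map (homOfLE h).op).hom

/-- Restriction of functions. -/
abbrev resR {U V : X.Opens} (h : V ≤ U) : Γ(X, U) →+* Γ(X, V) :=
  (X.presheaf.map (homOfLE h).op).hom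

variable {M}

@[simp]
lemma res_res {U V W : X.Opens} (h : V ≤ U) (h' : W ≤ V) (x : Γ(M, U)) :
    res M h' (res M h x) = res M (h'.trans h) x := by
  show (M.presheaf.map (homOfLE h).op ≫ M.presheaf.map (homOfLE h').op) x = _
  rw [← Functor.map_comp]
  rfl

@[simp]
lemma resR_resR {U V W : X.Opens} (h : V ≤ U) (h' : W ≤ V) (x : Γ(X, U)) :
    resR h' (resR h x) = resR (h'.trans h) x := by
  show (X.presheaf.map (homOfLE h).op ≫ X.presheaf.map (homOfLE h').op) x = _
  rw [← Functor.map_comp]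
  rfl

@[simp]
lemma res_self {U : X.Opens} (h : U ≤ U) (x : Γ(M, U)) : res M h x = x := by
  show (M.presheaf.map (𝟙 (op U))) x = x
  rw [CategoryTheory.Functor.map_id]
  rfl

@[simp]
lemma resR_self {U : X.Opens} (h : U ≤ U) (x : Γ(X, U)) : resR h x = x := by
  show (X.presheaf.map (𝟙 (op U))) x = x
  rw [CategoryTheory.Functor.map_id]
  rfl

lemma res_smul {U V : X.Opens} (h : V ≤ U) (r : Γ(X, U)) (x : Γ(M, U)) :
    res M h (r • x) = resR h r • res M h x :=
  M.map_smul (homOfLE h) r x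

lemma res_app {N : X.Modules} (φ : M ⟶ N) {U V : X.Opens} (h : V ≤ U) (x : Γ(M, U)) :
    res N h (φ.app U x) = φ.app V (res M h x) :=
  (congr($(φ.mapPresheaf.naturality (homOfLE h).op) x)).symm

lemma basicOpen_le_of_resR {U V : X.Opens} (h : V ≤ U) (f : Γ(X, U)) :
    X.basicOpen (resR h f) ≤ X.basicOpen f :=
  (Scheme.basicOpen_res X f (homOfLE h).op).trans_le inf_le_right

variable (M)

/-- Second half of `Localizes`. -/
def Separates {U : X.Opens} (f : Γ(X, U)) : Prop :=
  ∀ t : Γ(M, U), res M (X.basicOpen_le f) t = 0 → ∃ n : ℕ, f ^ n • t = 0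

/-- First half of `Localizes`. -/
def Extends {U : X.Opens} (f : Γ(X, U)) : Prop :=
  ∀ s : Γ(M, X.basicOpen f), ∃ (n : ℕ) (t : Γ(M, U)),
    res M (X.basicOpen_le f) t = resR (X.basicOpen_le f) f ^ n • s

/-- `Γ(M, U) → Γ(M, D(f))` is the localization away from `f`. -/
structure Localizes {U : X.Opens} (f : Γ(X, U)) : Prop where
  ext' : Extends M f
  sep : Separates M f

variable {M}

lemma Separates.exists_pow_smul_eq {U : X.Opens} {f : Γ(X, U)} (h : Separates M f)
    {t t' : Γ(M, U)} (e : res M (X.basicOpen_le f) t = res M (X.basicOpen_le f) t') :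
    ∃ n : ℕ, f ^ n • t = f ^ n • t' := by
  obtain ⟨n, hn⟩ := h (t - t') (by simp [e])
  exact ⟨n, by simpa [smul_sub, sub_eq_zero] using hn⟩

/-- Extension along any open `W` equal to `D(f)`. -/
lemma Extends.exists_of_eq {U W : X.Opens} {f : Γ(X, U)} (h : Extends M f)
    (hW : W = X.basicOpen f) (hWU : W ≤ U) (s : Γ(M, W)) :
    ∃ (n : ℕ) (t : Γ(M, U)), res M hWU t = resR hWU f ^ n • s := by
  subst hW
  exact h s

lemma Separates.exists_of_eq {U W : X.Opens} {f : Γ(X, U)} (h : Separates M f)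
    (hW : W = X.basicOpen f) (hWU : W ≤ U) (t : Γ(M, U)) (ht : res M hWU t = 0) :
    ∃ n : ℕ, f ^ n • t = 0 := by
  subst hW
  exact h t ht

lemma pow_smul_eq_of_le {U : X.Opens} {f : Γ(X, U)} {t t' : Γ(M, U)} {n m : ℕ} (hnm : n ≤ m)
    (e : f ^ n • t = f ^ n • t') : f ^ m • t = f ^ m • t' := by
  obtain ⟨k, rfl⟩ := Nat.exists_eq_add_of_le hnm
  rw [add_comm, pow_add, mul_smul, mul_smul, e]

section Iso

variable {N : X.Modules} {U : X.Opens} {f : Γ(X, U)}

lemma Separates.of_iso (e : M ≅ N) (h : Separates M f) : Separates N f := by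
  intro t ht
  obtain ⟨n, hn⟩ := h (e.inv.app U t) (by rw [res_app, ht, map_zero])
  refine ⟨n, ?_⟩
  have := congr(e.hom.app U $hn)
  simpa [← ConcreteCategory.comp_apply, ← Scheme.Modules.Hom.comp_app] using this

lemma Extends.of_iso (e : M ≅ N) (h : Extends M f) : Extends N f := by
  intro s
  obtain ⟨n, t, ht⟩ := h (e.inv.app _ s)
  refine ⟨n, e.hom.app U t, ?_⟩
  rw [res_app, ht, Scheme.Modules.Hom.app_smul, ← ConcreteCategory.comp_apply,
    ← Scheme.Modules.Hom.comp_app, e.inv_hom_id]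
  rfl

lemma Localizes.of_iso (e : M ≅ N) (h : Localizes M f) : Localizes N f :=
  ⟨h.ext'.of_iso e, h.sep.of_iso e⟩

end Iso

section Cover

variable {U : X.Opens} {ι : Type*} [Finite ι] (W : ι → X.Opens) (hW : ∀ i, W i ≤ U)
  (hcov : U ≤ ⨆ i, W i)

include hcov in
/-- Gluing of separation. -/
lemma Separates.of_cover {f : Γ(X, U)} (h : ∀ i, Separates M (resR (hW i) f)) :
    Separates M f := by
  intro t ht
  cases nonempty_fintype ι
  have hz (i : ι) : res M (X.basicOpen_le (resR (hW i) f)) (res M (hW i) t) = 0 := by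
    rw [res_res, ← res_res (X.basicOpen_le f) (basicOpen_le_of_resR (hW i) f), ht, map_zero]
  choose n hn using fun i ↦ h i _ (hz i)
  refine ⟨Finset.univ.sup n, ?_⟩
  refine TopCat.Sheaf.eq_of_locally_eq' ⟨_, M.isSheaf⟩ W U (fun i ↦ homOfLE (hW i)) hcov _ _
    fun i ↦ ?_
  change res M (hW i) _ = res M (hW i) 0
  rw [res_smul, map_pow, map_zero]
  simpa using pow_smul_eq_of_le (t' := 0) (Finset.le_sup (f := n) (Finset.mem_univ i))
    (by simpa using hn i)

include hcov in
/-- Gluing of extension. -/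
lemma Extends.of_cover {f : Γ(X, U)} (h : ∀ i, Extends M (resR (hW i) f))
    (h₂ : ∀ i j, Separates M (resR (inf_le_left.trans (hW i) : W i ⊓ W j ≤ U) f)) :
    Extends M f := by
  intro s
  cases nonempty_fintype ι
  have hle (i : ι) := basicOpen_le_of_resR (hW i) f
  choose n t ht using fun i ↦ h i (res M (hle i) s)
  obtain ⟨N, hN⟩ : ∃ N, ∀ i, n i ≤ N := ⟨Finset.univ.sup n, fun i ↦ Finset.le_sup (Finset.mem_univ i)⟩
  let t' (i : ι) : Γ(M, W i) := resR (hW i) f ^ (N - n i) • t i
  have ht' (i : ι) : res M (X.basicOpen_le _) (t' i) =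
      resR ((hle i).trans (X.basicOpen_le f)) f ^ N • res M (hle i) s := by
    simp only [t', res_smul, map_pow, ht i, resR_resR, smul_smul, ← pow_add,
      Nat.sub_add_cancel (hN i)]
  have hd (i j : ι) : ∃ m : ℕ,
      resR (inf_le_left.trans (hW i) : W i ⊓ W j ≤ U) f ^ m •
          res M (inf_le_left : W i ⊓ W j ≤ W i) (t' i) =
      resR (inf_le_left.trans (hW i) : W i ⊓ W j ≤ U) f ^ m •
          res M (inf_le_right : W i ⊓ W j ≤ W j) (t' j) := by
    refine (h₂ i j).exists_pow_smul_eq ?_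
    have h3 (k : ι) (hk : W i ⊓ W j ≤ W k) :
        X.basicOpen (resR (inf_le_left.trans (hW i) : W i ⊓ W j ≤ U) f) ≤
          X.basicOpen (resR (hW k) f) := by
      refine le_trans ?_ (Scheme.basicOpen_res X f (homOfLE (hW k)).op).ge
      exact le_inf ((X.basicOpen_le _).trans hk) (basicOpen_le_of_resR _ f)
    rw [res_res, res_res, ← res_res (X.basicOpen_le _) (h3 i inf_le_left),
      ← res_res (X.basicOpen_le _) (h3 j inf_le_right), ht' i, ht' j]
    simp only [res_smul, map_pow, resR_resR, res_res]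
  choose m hm using hd
  obtain ⟨K, hK⟩ : ∃ K, ∀ i j, m i j ≤ K :=
    ⟨Finset.univ.sup fun i ↦ Finset.univ.sup (m i), fun i j ↦
      (Finset.le_sup (f := m i) (Finset.mem_univ j)).trans
        (Finset.le_sup (f := fun i ↦ Finset.univ.sup (m i)) (Finset.mem_univ i))⟩
  obtain ⟨a, ha, -⟩ := TopCat.Sheaf.existsUnique_gluing' ⟨_, M.isSheaf⟩ W U
    (fun i ↦ homOfLE (hW i)) hcov (fun i ↦ resR (hW i) f ^ K • t' i) (by
      intro i j
      change res M inf_le_left _ = res M inf_le_right _
      simp only [res_smul, map_pow, resR_resR]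
      exact pow_smul_eq_of_le (hK i j) (hm i j))
  refine ⟨K + N, a, ?_⟩
  refine TopCat.Sheaf.eq_of_locally_eq' ⟨_, M.isSheaf⟩ (fun i ↦ X.basicOpen (resR (hW i) f))
    (X.basicOpen f) (fun i ↦ homOfLE (hle i)) ?_ _ _ fun i ↦ ?_
  · intro x hx
    obtain ⟨i, hi⟩ := Opens.mem_iSup.mp (hcov (X.basicOpen_le f hx))
    refine Opens.mem_iSup.mpr ⟨i, ?_⟩
    rw [Scheme.basicOpen_res]
    exact ⟨hi, hx⟩
  · change res M (hle i) (res M (X.basicOpen_le f) a) = res M (hle i) _
    rw [res_res, ← res_res (hW i) (X.basicOpen_le _), show res M (hW i) a = _ from ha i]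
    simp only [res_smul, map_pow, map_mul, resR_resR, ht' i, smul_smul, pow_add]

end Cover

section Restrict

variable (j : Y ⟶ X) [IsOpenImmersion j] {V : Y.Opens}

/-- Sections of `M.restrict j` localize iff those of `M` do. -/
lemma localizes_restrict_iff (g : Γ(Y, V)) :
    Localizes (M.restrict j) g ↔ Localizes M ((j.appIso V).inv g) := by
  have hb : j ''ᵁ Y.basicOpen g = X.basicOpen ((j.appIso V).inv g) := Scheme.image_basicOpen j g
  have hle : j ''ᵁ Y.basicOpen g ≤ j ''ᵁ V := j.image_mono (Y.basicOpen_le g)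
  have hs : resR hle ((j.appIso V).inv g) =
      (j.appIso (Y.basicOpen g)).inv (resR (Y.basicOpen_le g) g) := by
    exact congr($(j.appIso_inv_naturality (homOfLE (Y.basicOpen_le g)).op) g).symm
  constructor
  · intro h
    constructor
    · suffices ∀ (W : X.Opens) (hW : W = j ''ᵁ Y.basicOpen g) (hWU : W ≤ j ''ᵁ V) (s : Γ(M, W)),
          ∃ (n : ℕ) (t : Γ(M, j ''ᵁ V)), res M hWU t = resR hWU ((j.appIso V).inv g) ^ n • s from
        fun s ↦ this _ hb.symm _ s
      rintro W rfl hWU s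
      obtain ⟨n, t, ht⟩ := h.ext' ((M.restrictAppIso j _).inv s)
      refine ⟨n, (M.restrictAppIso j V).hom t, ?_⟩
      change res M hle t =
        (j.appIso (Y.basicOpen g)).inv (resR (Y.basicOpen_le g) g ^ n) • s at ht
      rw [map_pow, ← hs] at ht
      exact ht
    · suffices ∀ (W : X.Opens) (hW : W = j ''ᵁ Y.basicOpen g) (hWU : W ≤ j ''ᵁ V)
          (t : Γ(M, j ''ᵁ V)), res M hWU t = 0 → ∃ n : ℕ, (j.appIso V).inv g ^ n • t = 0 from
        fun t ↦ this _ hb.symm _ t
      rintro W rfl hWU t ht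
      obtain ⟨n, hn⟩ := h.sep ((M.restrictAppIso j V).inv t) ht
      refine ⟨n, ?_⟩
      change (j.appIso V).inv (g ^ n) • t = 0 at hn
      rw [map_pow] at hn
      exact hn
  · intro h
    constructor
    · intro s
      obtain ⟨n, t, ht⟩ := h.ext'.exists_of_eq hb hle ((M.restrictAppIso j _).hom s)
      refine ⟨n, (M.restrictAppIso j V).inv t, ?_⟩
      change res M hle t = (j.appIso (Y.basicOpen g)).inv (resR (Y.basicOpen_le g) g ^ n) •
        (M.restrictAppIso j _).hom s
      rw [map_pow, ← hs]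
      exact ht
    · intro t ht
      obtain ⟨n, hn⟩ := h.sep.exists_of_eq hb hle ((M.restrictAppIso j V).hom t) ht
      refine ⟨n, ?_⟩
      change (j.appIso V).inv (g ^ n) • (M.restrictAppIso j V).hom t = 0
      rw [map_pow]
      exact hn

/-- All functions on `j ''ᵁ V` localize `M` iff all on `V` localize `M.restrict j`. -/
lemma forall_localizes_image_iff :
    (∀ f : Γ(X, j ''ᵁ V), Localizes M f) ↔ ∀ g : Γ(Y, V), Localizes (M.restrict j) g := by
  refine ⟨fun h g ↦ (localizes_restrict_iff j g).mpr (h _), fun h f ↦ ?_⟩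
  obtain ⟨g, rfl⟩ := (ConcreteCategory.bijective_of_isIso (j.appIso V).inv).2 f
  exact (localizes_restrict_iff j g).mp (h g)

end Restrict

section Spec

variable {R : CommRingCat.{u}} (N : (Spec R).Modules)

lemma smul_spec_eq {U : (Spec R).Opens} (r : R) (x : Γ(N, U)) :
    r • x = resR (le_top : U ≤ ⊤) ((Scheme.ΓSpecIso R).inv r) • x :=
  rfl

lemma isLocalizing_iff_forall_localizes :
    IsLocalizing (modulesSpecToSheaf.obj N) ↔ ∀ f : Γ(Spec R, ⊤), Localizes N f := by
  constructor
  · intro h g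
    obtain ⟨f, rfl⟩ := (ConcreteCategory.bijective_of_isIso (Scheme.ΓSpecIso R).inv).2 g
    have hb : PrimeSpectrum.basicOpen f = (Spec R).basicOpen ((Scheme.ΓSpecIso R).inv f) :=
      (basicOpen_eq_of_affine f).symm
    constructor
    · suffices ∀ (W : (Spec R).Opens) (hW : W = PrimeSpectrum.basicOpen f) (s : Γ(N, W)),
          ∃ (n : ℕ) (t : Γ(N, ⊤)),
            res N (le_top : W ≤ ⊤) t =
              resR (le_top : W ≤ ⊤) ((Scheme.ΓSpecIso R).inv f) ^ n • s from
        fun s ↦ this _ hb.symm s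
      intro W hW s
      have hloc : IsLocalizedModule (.powers f)
          ((modulesSpecToSheaf.obj N).obj.map W.leTop.op).hom := hW ▸ h f
      obtain ⟨⟨t, ⟨_, n, rfl⟩⟩, hn⟩ := IsLocalizedModule.surj (.powers f)
        ((modulesSpecToSheaf.obj N).obj.map W.leTop.op).hom s
      refine ⟨n, t, ?_⟩
      change f ^ n • s = res N (le_top : W ≤ ⊤) t at hn
      rw [← hn, smul_spec_eq, map_pow, map_pow]
    · suffices ∀ (W : (Spec R).Opens) (hW : W = PrimeSpectrum.basicOpen f) (t : Γ(N, ⊤)),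
          res N (le_top : W ≤ ⊤) t = 0 → ∃ n : ℕ, (Scheme.ΓSpecIso R).inv f ^ n • t = 0 from
        fun t ↦ this _ hb.symm t
      rintro W rfl t ht
      have := h f
      obtain ⟨⟨_, n, rfl⟩, hn⟩ := (IsLocalizedModule.eq_zero_iff (.powers f)
        ((modulesSpecToSheaf.obj N).obj.map (PrimeSpectrum.basicOpen f).leTop.op).hom).mp ht
      refine ⟨n, ?_⟩
      change f ^ n • t = 0 at hn
      rw [smul_spec_eq, resR_self, map_pow] at hn
      exact hn
  · intro h f
    have hb : PrimeSpectrum.basicOpen f = (Spec R).basicOpen ((Scheme.ΓSpecIso R).inv f) :=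
      (basicOpen_eq_of_affine f).symm
    refine IsLocalizedModule.Away.mk_of_addCommGroup
      (N.isUnit_algebraMap_end_of_le_basicOpen f le_rfl) (fun s ↦ ?_) fun t ht ↦ ?_
    · obtain ⟨n, t, ht⟩ := (h ((Scheme.ΓSpecIso R).inv f)).ext'.exists_of_eq hb le_top s
      refine ⟨n, t, ?_⟩
      have key : ∀ (W : (Spec R).Opens) (s : Γ(N, W)) (t : Γ(N, ⊤)),
          res N le_top t = resR (le_top : W ≤ ⊤) ((Scheme.ΓSpecIso R).inv f) ^ n • s →
          f ^ n • s = res N le_top t := fun W s t ht ↦ by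
        rw [ht, smul_spec_eq, map_pow, map_pow]
      exact key (PrimeSpectrum.basicOpen f : (Spec R).Opens) s t ht
    · obtain ⟨n, hn⟩ := (h ((Scheme.ΓSpecIso R).inv f)).sep.exists_of_eq hb le_top t ht
      refine ⟨n, ?_⟩
      change (f ^ n • (show Γ(N, ⊤) from t)) = 0
      rw [smul_spec_eq, resR_self, map_pow]
      exact hn

lemma isQCoh_spec_iff : N.IsQuasicoherent ↔ ∀ f : Γ(Spec R, ⊤), Localizes N f := by
  rw [isQuasicoherent_iff_isIso_fromTildeΓ, isIso_fromTildeΓ_iff_isLocalizing,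
    isLocalizing_iff_forall_localizes]

end Spec

section Affine

/-- Quasi-coherence of the restriction to an affine open, in terms of sections. -/
lemma isQCoh_restrict_fromSpec_iff {U : X.Opens} (hU : IsAffineOpen U) :
    (M.restrict hU.fromSpec).IsQuasicoherent ↔ ∀ f : Γ(X, U), Localizes M f := by
  rw [isQCoh_spec_iff, ← forall_localizes_image_iff]
  have e : hU.fromSpec ''ᵁ ⊤ = U := by
    rw [Scheme.Hom.image_top_eq_opensRange, hU.opensRange_fromSpec]
  rw [e]

variable (M)

/-- Sections of a quasi-coherent module over `D(f)`, `f` a function on an affine open `U`, are the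
localization of the sections over `U`. -/
theorem localizes_of_isAffineOpen [M.IsQuasicoherent] {U : X.Opens} (hU : IsAffineOpen U)
    (f : Γ(X, U)) : Localizes M f :=
  (isQCoh_restrict_fromSpec_iff hU).mp inferInstance f

/-- A section of a quasi-coherent module on a quasi-compact open that vanishes on `D(f)` is killed
by a power of `f`. -/
theorem exists_pow_smul_eq_zero_of_isCompact [M.IsQuasicoherent] {U : X.Opens}
    (hU : IsCompact (U : Set X)) (f : Γ(X, U)) : Separates M f := by
  obtain ⟨s, hs, hcov⟩ := isCompact_and_isOpen_iff_finite_and_eq_biUnion_affineOpens.mp ⟨hU, U.2⟩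
  have := hs.to_subtype
  have hle (i : s) : (i.1.1 : X.Opens) ≤ U := by
    intro x hx
    rw [← SetLike.mem_coe, hcov]
    exact Set.mem_biUnion i.2 hx
  refine Separates.of_cover (fun i : s ↦ i.1.1) hle ?_ fun i ↦
    (localizes_of_isAffineOpen M i.1.2 _).sep
  intro x hx
  rw [← SetLike.mem_coe, hcov] at hx
  obtain ⟨i, hi, hxi⟩ := Set.mem_iUnion₂.mp hx
  exact Opens.mem_iSup.mpr ⟨⟨i, hi⟩, hxi⟩

/-- The qcqs lemma for quasi-coherent modules. -/
theorem localizes_of_qcqs [M.IsQuasicoherent] {U : X.Opens}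
    (hU : IsCompact (U : Set X)) (hU' : IsQuasiSeparated (U : Set X)) (f : Γ(X, U)) :
    Localizes M f := by
  refine ⟨?_, exists_pow_smul_eq_zero_of_isCompact M hU f⟩
  obtain ⟨s, hs, hcov⟩ := isCompact_and_isOpen_iff_finite_and_eq_biUnion_affineOpens.mp ⟨hU, U.2⟩
  have := hs.to_subtype
  have hle (i : s) : (i.1.1 : X.Opens) ≤ U := by
    intro x hx
    rw [← SetLike.mem_coe, hcov]
    exact Set.mem_biUnion i.2 hx
  refine Extends.of_cover (fun i : s ↦ i.1.1) hle ?_
    (fun i ↦ (localizes_of_isAffineOpen M i.1.2 _).ext')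
    fun i j ↦ exists_pow_smul_eq_zero_of_isCompact M ?_ _
  · intro x hx
    rw [← SetLike.mem_coe, hcov] at hx
    obtain ⟨i, hi, hxi⟩ := Set.mem_iUnion₂.mp hx
    exact Opens.mem_iSup.mpr ⟨⟨i, hi⟩, hxi⟩
  · exact hU' _ _ (hle i) i.1.1.2 i.1.2.isCompact (hle j) j.1.1.2 j.1.2.isCompact

variable {M}

/-- Converse: a module whose sections localize on the members of an affine cover is
quasi-coherent. -/
theorem isQCoh_of_forall_exists_localizes
    (h : ∀ x : X, ∃ U : X.Opens, IsAffineOpen U ∧ x ∈ U ∧ ∀ f : Γ(X, U), Localizes M f) :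
    M.IsQuasicoherent := by
  choose U hU hxU hloc using h
  have hcovT : iSup U = ⊤ := eq_top_iff.mpr fun x _ ↦ Opens.mem_iSup.mpr ⟨x, hxU x⟩
  refine SheafOfModules.QuasicoherentData.isQuasicoherent (C := X.Opens)
    (R := X.ringCatSheaf) (M := M)
    { I := X
      X := U
      coversTop := (Opens.coversTop_iff _ _).mpr hcovT
      presentation := fun x ↦ ?_ }
  have hq : (M.restrict (hU x).fromSpec).IsQuasicoherent :=
    (isQCoh_restrict_fromSpec_iff (hU x)).mpr (hloc x)
  haveI hiso := (isQuasicoherent_iff_isIso_fromTildeΓ _).mp hq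
  let P₀ : (M.restrict (hU x).fromSpec).Presentation :=
    @SheafOfModules.Presentation.ofIsIso.{u, u, u} _ _ _ _ _ _ _ _
      (M.restrict (hU x).fromSpec).fromTildeΓ hiso
      (presentationTilde.{u} _ .univ (by simp) _ (Submodule.span_eq _))
  have hfs : (hU x).isoSpec.hom ≫ (hU x).fromSpec = (U x).ι :=
    ((hU x).isoSpec.hom_inv_id_assoc _ :)
  let ε := ((Scheme.Modules.restrictFunctorComp (hU x).isoSpec.hom (hU x).fromSpec).symm ≪≫
    Scheme.Modules.restrictFunctorCongr hfs).app M
  let P₁ : (M.restrict (U x).ι).Presentation :=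
    @SheafOfModules.Presentation.ofIsIso.{u, u, u} _ _ _ _ _ _ _ _ ε.hom ε.isIso_hom
      (Scheme.Modules.presentationRestrict (hU x).isoSpec.hom P₀)
  let E := Scheme.Modules.overEquiv (U x)
  let e (N : X.Modules) : E.inverse.obj (N.restrict (U x).ι) ≅ SheafOfModules.over N (U x) :=
    E.inverse.mapIso ((Scheme.Modules.overFunctorEquiv (U x)).app N).symm ≪≫
      (E.unitIso.app (SheafOfModules.over N (U x))).symm
  let F : SheafOfModules.{u} (U x : Scheme.{u}).ringCatSheaf ⥤
      SheafOfModules.{u} (X.ringCatSheaf.over (U x)) := E.inverse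
  haveI : PreservesColimitsOfSize.{u, u} F :=
    Adjunction.leftAdjoint_preservesColimits.{u, u} E.symm.toAdjunction
  exact @SheafOfModules.Presentation.ofIsIso.{u, u, u} _ _ _ _ _ _ _ _ (e M).hom
    (e M).isIso_hom
    (P₁.map F ((E.inverse.mapIso (Scheme.Modules.restrictUnitIso (U x).ι).symm ≪≫
      e (SheafOfModules.unit X.ringCatSheaf)).symm))

/-- Quasi-coherence is: sections localize on every affine open. -/
theorem isQCoh_iff_forall_affine :
    M.IsQuasicoherent ↔ ∀ U : X.Opens, IsAffineOpen U → ∀ f : Γ(X, U), Localizes M f := by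
  refine ⟨fun _ U hU f ↦ localizes_of_isAffineOpen M hU f, fun h ↦ ?_⟩
  refine isQCoh_of_forall_exists_localizes fun x ↦ ?_
  obtain ⟨U, hU, hxU, -⟩ :=
    exists_isAffineOpen_mem_and_subset (U := ⊤) (x := x) trivial
  exact ⟨U, hU, hxU, h U hU⟩

end Affine

end

end Groth.Agent.Lib.QCoh.Localizing
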