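import Groth.Agent.Lib.QCoh.Tilde
import Mathlib.Algebra.Category.ModuleCat.ChangeOfRings

/-!
# Inverse images of quasi-coherent modules

* `pushforwardSpecΓIso`: global sections of a direct image along `Spec φ`;
* `pullbackTildeIso`: `(Spec φ)^* (N^~) ≅ (S ⊗[R] N)^~`;
* `restrictPullbackIso`: the inverse image on a chart;
* `isQCoh_pullback`.
-/

set_option autoImplicit false
set_option linter.style.haveILetI false
universe u

open CategoryTheory Limits AlgebraicGeometry Opposite TopologicalSpace

namespace Groth.Agent.Lib.QCoh.Pullback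

open Localizing Closure Tilde

noncomputable section

variable {R S : CommRingCat.{u}} (φ : R ⟶ S)

/-- Global sections of the direct image along `Spec φ`. -/
def pushforwardSpecΓIso :
    Scheme.Modules.pushforward (Spec.map φ) ⋙ specΓ R ≅
      specΓ S ⋙ ModuleCat.restrictScalars φ.hom :=
  Functor.isoWhiskerRight (pushforwardCompModulesSpecToSheafIso φ)
      (TopCat.Sheaf.forget _ _ ⋙ (evaluation _ _).obj (op ⊤)) ≪≫
    NatIso.ofComponents (fun _ ↦ Iso.refl _) fun _ ↦ rfl

/-- The inverse image of `N^~` along `Spec φ` is `(S ⊗[R] N)^~`, naturally in `N`. -/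
def pullbackTildeIso :
    tilde.functor R ⋙ Scheme.Modules.pullback (Spec.map φ) ≅
      ModuleCat.extendScalars φ.hom ⋙ tilde.functor S :=
  ((specAdj R).comp
      (Scheme.Modules.pullbackPushforwardAdjunction (Spec.map φ))).leftAdjointUniq
    (((ModuleCat.extendRestrictScalarsAdj φ.hom).comp (specAdj S)).ofNatIsoRight
      (pushforwardSpecΓIso φ).symm)

instance isQCoh_pullback_tilde (N : ModuleCat.{u} R) :
    ((Scheme.Modules.pullback (Spec.map φ)).obj ((tilde.functor R).obj N)).IsQuasicoherent :=
  (SheafOfModules.isQuasicoherent (Spec S).ringCatSheaf).prop_of_iso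
    ((pullbackTildeIso φ).app N).symm (isQCoh_tildeFunctor_obj _)

variable {X Y : Scheme.{u}} (f : X ⟶ Y)

/-- The inverse image restricted to a chart `j : U → X` over a chart `k : V → Y`. -/
def restrictPullbackIso {U V : Scheme.{u}} (j : U ⟶ X) [IsOpenImmersion j] (k : V ⟶ Y)
    [IsOpenImmersion k] (g : U ⟶ V) (w : g ≫ k = j ≫ f) :
    Scheme.Modules.pullback f ⋙ Scheme.Modules.restrictFunctor j ≅
      Scheme.Modules.restrictFunctor k ⋙ Scheme.Modules.pullback g :=
  Functor.isoWhiskerLeft _ (Scheme.Modules.restrictFunctorIsoPullback j) ≪≫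
    Scheme.Modules.pullbackComp j f ≪≫ Scheme.Modules.pullbackCongr w.symm ≪≫
    (Scheme.Modules.pullbackComp g k).symm ≪≫
    Functor.isoWhiskerRight (Scheme.Modules.restrictFunctorIsoPullback k).symm _

/-- On affine opens `U ⊆ f⁻¹ V`, the inverse image of a quasi-coherent module is `tilde` of the
base change of its sections on `V`. -/
def restrictPullbackTildeIso (M : Y.Modules) [M.IsQuasicoherent] {V : Y.Opens} {U : X.Opens}
    (hV : IsAffineOpen V) (hU : IsAffineOpen U) (e : U ≤ f ⁻¹ᵁ V) :
    ((Scheme.Modules.pullback f).obj M).restrict hU.fromSpec ≅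
      (tilde.functor _).obj ((ModuleCat.extendScalars (f.appLE V U e).hom).obj
        ((specΓ _).obj (M.restrict hV.fromSpec))) :=
  (restrictPullbackIso f hU.fromSpec hV.fromSpec (Spec.map (f.appLE V U e))
      (IsAffineOpen.SpecMap_appLE_fromSpec f hV hU e)).app M ≪≫
    (Scheme.Modules.pullback (Spec.map (f.appLE V U e))).mapIso
      (isoTildeSections (M.restrict hV.fromSpec)).symm ≪≫
    (pullbackTildeIso (f.appLE V U e)).app _

/-- Inverse images of quasi-coherent modules are quasi-coherent. -/
theorem isQCoh_pullback (M : Y.Modules) [M.IsQuasicoherent] :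
    ((Scheme.Modules.pullback f).obj M).IsQuasicoherent := by
  refine isQCoh_of_forall_exists_localizes fun x ↦ ?_
  obtain ⟨V, hV, hxV, -⟩ := exists_isAffineOpen_mem_and_subset (U := ⊤) (x := f x) trivial
  obtain ⟨U, hU, hxU, hUV⟩ := exists_isAffineOpen_mem_and_subset (U := f ⁻¹ᵁ V) (x := x) hxV
  refine ⟨U, hU, hxU, (isQCoh_restrict_fromSpec_iff hU).mp ?_⟩
  exact (SheafOfModules.isQuasicoherent.{u} (Spec Γ(X, U)).ringCatSheaf).prop_of_iso
    (restrictPullbackTildeIso f M hV hU hUV).symm (isQCoh_tildeFunctor_obj _)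

end

end Groth.Agent.Lib.QCoh.Pullback
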