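import Groth.Agent.Lib.QCoh.Localizing
import Mathlib.AlgebraicGeometry.Morphisms.Affine

/-!
# Direct images of quasi-coherent modules
-/

set_option autoImplicit false
universe u

open CategoryTheory Limits AlgebraicGeometry Opposite TopologicalSpace

namespace Groth.Agent.Lib.QCoh.Pushforward

open Localizing

noncomputable section

variable {X Y : Scheme.{u}} (f : X ⟶ Y) {M : X.Modules}

/-- The direct image localizes at `g` iff `M` localizes at the pull-back of `g`. -/
lemma localizes_pushforward {V : Y.Opens} {g : Γ(Y, V)} (h : Localizes M (f.app V g)) :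
    Localizes ((Scheme.Modules.pushforward f).obj M) g := by
  have hb : f ⁻¹ᵁ Y.basicOpen g = X.basicOpen (f.app V g) := Scheme.preimage_basicOpen f g
  have hle : f ⁻¹ᵁ Y.basicOpen g ≤ f ⁻¹ᵁ V := f.preimage_mono (Y.basicOpen_le g)
  have hs : resR hle (f.app V g) = f.app (Y.basicOpen g) (resR (Y.basicOpen_le g) g) :=
    (congr($(f.naturality (homOfLE (Y.basicOpen_le g)).op) g)).symm
  constructor
  · intro s
    obtain ⟨n, t, ht⟩ := h.ext'.exists_of_eq hb hle s
    refine ⟨n, t, ?_⟩
    change res M hle t = f.app (Y.basicOpen g) (resR (Y.basicOpen_le g) g ^ n) •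
      (show Γ(M, f ⁻¹ᵁ Y.basicOpen g) from s)
    rw [map_pow, ← hs]
    exact ht
  · intro t ht
    obtain ⟨n, hn⟩ := h.sep.exists_of_eq hb hle t ht
    refine ⟨n, ?_⟩
    change f.app V (g ^ n) • (show Γ(M, f ⁻¹ᵁ V) from t) = 0
    rw [map_pow]
    exact hn

/-- The direct image of a quasi-coherent module along a qcqs morphism is quasi-coherent. -/
theorem isQCoh_pushforward [QuasiCompact f] [QuasiSeparated f] [M.IsQuasicoherent] :
    ((Scheme.Modules.pushforward f).obj M).IsQuasicoherent :=
  isQCoh_iff_forall_affine.mpr fun _ hV g ↦ localizes_pushforward f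
    (localizes_of_qcqs M (f.isCompact_preimage hV.isCompact)
      (f.isQuasiSeparated_preimage hV.isQuasiSeparated) _)

end

end Groth.Agent.Lib.QCoh.Pushforward
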