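import Groth.Agent.Lib.QCoh.Localizing
import Groth.Agent.Lib.Modules.StalkModule

/-!
# Stalks of quasi-coherent modules are localizations

For `U` affine and `x ∈ U`, the germ map `Γ(M, U) → M_x` is the localization at the functions
not vanishing at `x`, stated elementwise.
-/

set_option autoImplicit false
universe u

open CategoryTheory Limits AlgebraicGeometry Opposite TopologicalSpace

namespace Groth.Agent.Lib.QCoh.Stalk

open Localizing

noncomputable section

variable {X : Scheme.{u}} (M : X.Modules) [M.IsQuasicoherent] {U : X.Opens} {x : X}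

/-- Every germ becomes the germ of a section over the affine `U` after multiplying by a function
not vanishing at `x`. -/
theorem exists_smul_eq_germ (hU : IsAffineOpen U) (hx : x ∈ U) (z : M.presheaf.stalk x) :
    ∃ (f : Γ(X, U)) (t : Γ(M, U)), x ∈ X.basicOpen f ∧
      X.presheaf.germ U x hx f • z = M.presheaf.germ U x hx t := by
  obtain ⟨W, hxW, s, rfl⟩ := TopCat.Presheaf.exists_germ_eq M.presheaf z
  obtain ⟨f, hfW, hxf⟩ := hU.exists_basicOpen_le ⟨x, hxW⟩ hx
  obtain ⟨n, t, ht⟩ := (localizes_of_isAffineOpen M hU f).ext' (res M hfW s)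
  refine ⟨f ^ n, t, ?_, ?_⟩
  · rcases Nat.eq_zero_or_pos n with rfl | hn
    · rw [pow_zero, Scheme.basicOpen_of_isUnit X isUnit_one]
      exact hx
    · rwa [Scheme.basicOpen_pow X f hn]
  · rw [← TopCat.Presheaf.germ_res_apply M.presheaf (homOfLE hfW) x hxf s,
      ← TopCat.Presheaf.germ_res_apply M.presheaf (homOfLE (X.basicOpen_le f)) x hxf t,
      ← TopCat.Presheaf.germ_res_apply X.presheaf (homOfLE (X.basicOpen_le f)) x hxf (f ^ n)]
    change _ = M.presheaf.germ _ x hxf (res M (X.basicOpen_le f) t)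
    rw [ht, Modules.StalkModule.germ_smul, map_pow]

/-- A section over the affine `U` has zero germ at `x` iff a function not vanishing at `x` kills
it. -/
theorem germ_eq_zero_iff (hU : IsAffineOpen U) (hx : x ∈ U) (t : Γ(M, U)) :
    M.presheaf.germ U x hx t = 0 ↔ ∃ f : Γ(X, U), x ∈ X.basicOpen f ∧ f • t = 0 := by
  constructor
  · intro h
    rw [← (M.presheaf.germ U x hx).hom.map_zero] at h
    obtain ⟨W, hxW, i, i', hW⟩ := TopCat.Presheaf.germ_eq M.presheaf x hx hx t 0 h
    obtain ⟨f, hfW, hxf⟩ := hU.exists_basicOpen_le ⟨x, hxW⟩ hx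
    obtain ⟨n, hn⟩ := (localizes_of_isAffineOpen M hU f).sep t (by
      rw [← res_res i.le hfW, show res M i.le t = _ from hW, map_zero, map_zero])
    refine ⟨f ^ (n + 1), ?_, ?_⟩
    · rwa [Scheme.basicOpen_pow X f n.succ_pos]
    · rw [pow_succ', mul_smul, hn, smul_zero]
  · rintro ⟨f, hxf, hf⟩
    have h := congr(M.presheaf.germ U x hx $hf)
    rw [map_zero, Modules.StalkModule.germ_smul] at h
    exact ((RingedSpace.mem_basicOpen _ f x hx).mp hxf).smul_eq_zero.mp h

omit [M.IsQuasicoherent] in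
lemma mem_primeIdealOf_compl_iff (hU : IsAffineOpen U) (hx : x ∈ U) (f : Γ(X, U)) :
    f ∈ (hU.primeIdealOf ⟨x, hx⟩).asIdeal.primeCompl ↔ x ∈ X.basicOpen f := by
  have h : hU.primeIdealOf ⟨x, hx⟩ ∈ hU.fromSpec ⁻¹ᵁ X.basicOpen f ↔ x ∈ X.basicOpen f := by
    show hU.fromSpec (hU.primeIdealOf ⟨x, hx⟩) ∈ X.basicOpen f ↔ _
    rw [hU.fromSpec_primeIdealOf]
  rw [← h, hU.fromSpec_preimage_basicOpen]
  rfl

end

end Groth.Agent.Lib.QCoh.Stalk
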