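import Groth.Agent.Lib.QCoh.Closure

/-!
# The functor `M ↦ M^~` is exact; quasi-coherent modules on `Spec R`

* `tildeFunctor_preservesFiniteLimits`, `tilde_map_shortExact`;
* `isoTildeSections`: a quasi-coherent module is `tilde` of its global sections;
* `specSections_shortExact`: `Γ` is exact on quasi-coherent modules.
-/

set_option autoImplicit false
set_option linter.style.haveILetI false
universe u

open CategoryTheory Limits AlgebraicGeometry Opposite TopologicalSpace

namespace Groth.Agent.Lib.QCoh.Tilde

open Localizing Closure

noncomputable section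

variable {R : CommRingCat.{u}}

/-- Global sections of modules on `Spec R`, as `R`-modules (Mathlib's `moduleSpecΓFunctor`). -/
def specΓ (R : CommRingCat.{u}) : (Spec R).Modules ⥤ ModuleCat.{u} R :=
  moduleSpecΓFunctor (R := R)

/-- The tilde-Gamma adjunction. -/
def specAdj (R : CommRingCat.{u}) : tilde.functor R ⊣ specΓ R := tilde.adjunction (R := R)

instance specΓ_isRightAdjoint : (specΓ R).IsRightAdjoint := (specAdj R).isRightAdjoint

instance specΓ_additive : (specΓ R).Additive := (specAdj R).right_adjoint_additive

/-- `Γ` of a map is the map on global sections. -/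
lemma specΓ_map_apply {M N : (Spec R).Modules} (φ : M ⟶ N) (x : Γ(M, ⊤)) :
    (specΓ R).map φ x = φ.app ⊤ x := rfl

/-- A quasi-coherent module on `Spec R` is `tilde` of its global sections. -/
def isoTildeSections (M : (Spec R).Modules) [M.IsQuasicoherent] :
    tilde ((specΓ R).obj M) ≅ M :=
  @asIso _ _ _ _ M.fromTildeΓ ((isQuasicoherent_iff_isIso_fromTildeΓ M).mp ‹_›)

/-- `Γ (M^~) ≅ M`, naturally. -/
def sectionsTildeIso : 𝟭 (ModuleCat.{u} R) ≅ tilde.functor R ⋙ specΓ R :=
  tilde.toTildeΓNatIso (R := R)

lemma isQCoh_tildeFunctor_obj (M : ModuleCat.{u} R) :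
    ((tilde.functor R).obj M).IsQuasicoherent := inferInstance

/-- `tilde` preserves monomorphisms. -/
lemma mono_tilde_map {M N : ModuleCat.{u} R} (g : M ⟶ N) [Mono g] :
    Mono ((tilde.functor R).map g) := by
  haveI : (kernel ((tilde.functor R).map g)).IsQuasicoherent := isQCoh_kernel _
  let Γ' := specΓ R
  have hmono : Mono (Γ'.map ((tilde.functor R).map g)) := by
    have h := (sectionsTildeIso (R := R)).hom.naturality g
    have e : Γ'.map ((tilde.functor R).map g) = (sectionsTildeIso (R := R)).inv.app M ≫ g ≫
        (sectionsTildeIso (R := R)).hom.app N := by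
      rw [show g ≫ (sectionsTildeIso (R := R)).hom.app N = _ from h, Iso.inv_hom_id_app_assoc]
      rfl
    rw [e]
    infer_instance
  have hz : IsZero (Γ'.obj (kernel ((tilde.functor R).map g))) :=
    (isZero_kernel_of_mono (Γ'.map ((tilde.functor R).map g))).of_iso (PreservesKernel.iso Γ' _)
  exact Preadditive.mono_of_isZero_kernel _
    (((tilde.functor R).map_isZero hz).of_iso (isoTildeSections _).symm)

instance tildeFunctor_preservesMonomorphisms : (tilde.functor R).PreservesMonomorphisms :=
  ⟨fun g _ ↦ mono_tilde_map g⟩

instance tildeFunctor_preservesHomology : (tilde.functor R).PreservesHomology :=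
  (tilde.functor R).preservesHomology_of_preservesMonos_and_cokernels

instance tildeFunctor_preservesFiniteLimits : PreservesFiniteLimits (tilde.functor R) :=
  (tilde.functor R).preservesFiniteLimits_of_preservesHomology

lemma tilde_map_shortExact {S : ShortComplex (ModuleCat.{u} R)} (hS : S.ShortExact) :
    (S.map (tilde.functor R)).ShortExact :=
  hS.map_of_exact (tilde.functor R)

/-- `Γ` is exact on short exact sequences with quasi-coherent kernel. -/
lemma specSections_shortExact {S : ShortComplex (Spec R).Modules} (hS : S.ShortExact)
    [S.X₁.IsQuasicoherent] : (S.map (specΓ R)).ShortExact := by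
  haveI := hS.mono_f
  haveI := hS.epi_g
  exact
    { exact := hS.exact.map_of_mono_of_preservesKernel _ inferInstance inferInstance
      mono_f := inferInstanceAs (Mono ((specΓ R).map S.f))
      epi_g := (ModuleCat.epi_iff_surjective _).mpr
        (sections_surjective hS (isAffineOpen_top (Spec R))) }

end

end Groth.Agent.Lib.QCoh.Tilde
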