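import Groth.Agent.Lib.QCoh.Tilde
import Groth.Agent.Lib.QCoh.Pushforward
import Groth.Agent.Lib.ClSub.Basis
import Mathlib.Algebra.Category.ModuleCat.Colimits

/-!
# Sections over affines commute with colimits of quasi-coherent modules; affine direct images

* `sectionsFunctor_preservesColimit`;
* `pushforward_preservesColimit`: affine direct images preserve colimits of quasi-coherent modules;
* `epi_pushforward_map`: affine direct images preserve epimorphisms of quasi-coherent modules.
-/

set_option autoImplicit false
set_option linter.style.haveILetI false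
universe w w' u

open CategoryTheory Limits AlgebraicGeometry Opposite TopologicalSpace

namespace Groth.Agent.Lib.QCoh.Sections

open Localizing Closure Tilde

noncomputable section

variable {J : Type w} [Category.{w'} J]

/-- `Γ` on `Spec R` preserves colimits of quasi-coherent modules. -/
theorem specΓ_preservesColimit {R : CommRingCat.{u}} [HasColimitsOfShape J (ModuleCat.{u} R)]
    (D : J ⥤ (Spec R).Modules) (hD : ∀ j, (D.obj j).IsQuasicoherent) :
    PreservesColimit D (specΓ R) := by
  let K := D ⋙ specΓ R
  let e : K ⋙ tilde.functor R ≅ D :=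
    NatIso.ofComponents (fun j ↦ @asIso _ _ _ _ ((specAdj R).counit.app (D.obj j))
        ((isQuasicoherent_iff_isIso_fromTildeΓ _).mp (hD j)))
      fun f ↦ (specAdj R).counit.naturality (D.map f)
  haveI : PreservesColimit K (tilde.functor R ⋙ specΓ R) :=
    preservesColimit_of_natIso K (sectionsTildeIso (R := R))
  haveI : PreservesColimit (K ⋙ tilde.functor R) (specΓ R) :=
    preservesColimit_of_preserves_colimit_cocone
      (isColimitOfPreserves (tilde.functor R) (colimit.isColimit K))
      (isColimitOfPreserves (tilde.functor R ⋙ specΓ R) (colimit.isColimit K))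
  exact preservesColimit_of_iso_diagram _ e

variable {X S : Scheme.{u}}

/-- Sections over an affine open commute with colimits of quasi-coherent modules. -/
theorem sectionsFunctor_preservesColimit
    [∀ R : CommRingCat.{u}, HasColimitsOfShape J (ModuleCat.{u} R)]
    [∀ R : CommRingCat.{u},
      PreservesColimitsOfShape J (forget₂ (ModuleCat.{u} R) AddCommGrpCat.{u})]
    (D : J ⥤ X.Modules) (hD : ∀ j, (D.obj j).IsQuasicoherent) {U : X.Opens}
    (hU : IsAffineOpen U) : PreservesColimit D (sectionsFunctor U) := by
  have e : hU.fromSpec ''ᵁ ⊤ = U := by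
    rw [Scheme.Hom.image_top_eq_opensRange, hU.opensRange_fromSpec]
  suffices PreservesColimit D (sectionsFunctor (hU.fromSpec ''ᵁ ⊤)) from e ▸ this
  haveI : PreservesColimit (D ⋙ Scheme.Modules.restrictFunctor hU.fromSpec) (specΓ Γ(X, U)) :=
    specΓ_preservesColimit _ fun j ↦
      haveI := hD j
      inferInstanceAs ((D.obj j).restrict hU.fromSpec).IsQuasicoherent
  exact preservesColimit_of_natIso D
    (F := Scheme.Modules.restrictFunctor hU.fromSpec ⋙ specΓ Γ(X, U) ⋙
      forget₂ (ModuleCat.{u} Γ(X, U)) AddCommGrpCat.{u})
    (NatIso.ofComponents (fun _ ↦ Iso.refl _) fun _ ↦ rfl)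

/-- Direct image along an affine morphism preserves colimits of quasi-coherent modules. -/
theorem pushforward_preservesColimit (f : X ⟶ S) [IsAffineHom f]
    [∀ R : CommRingCat.{u}, HasColimitsOfShape J (ModuleCat.{u} R)]
    [∀ R : CommRingCat.{u},
      PreservesColimitsOfShape J (forget₂ (ModuleCat.{u} R) AddCommGrpCat.{u})]
    [HasColimitsOfShape J S.Modules]
    (D : J ⥤ X.Modules) (hD : ∀ j, (D.obj j).IsQuasicoherent) :
    PreservesColimit D (Scheme.Modules.pushforward f) := by
  refine ⟨fun {c} hc ↦ ⟨?_⟩⟩
  let P := Scheme.Modules.pushforward f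
  let d := colimit.cocone (D ⋙ P)
  have hd := colimit.isColimit (D ⋙ P)
  let φ := hd.desc (P.mapCocone c)
  have hq : ∀ j, ((D ⋙ P).obj j).IsQuasicoherent := fun j ↦
    haveI := hD j
    Pushforward.isQCoh_pushforward f
  haveI : IsIso φ := ClSub.Basis.isIso_of_bijective_affine φ fun U ↦ by
    haveI := sectionsFunctor_preservesColimit D hD (U.2.preimage f)
    haveI := sectionsFunctor_preservesColimit (D ⋙ P) hq U.2
    have h₁ := isColimitOfPreserves (sectionsFunctor U.1) hd
    have h₂ : IsColimit ((sectionsFunctor U.1).mapCocone (P.mapCocone c)) :=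
      isColimitOfPreserves (sectionsFunctor (f ⁻¹ᵁ U.1)) hc
    have hh : (sectionsFunctor U.1).map φ = (h₁.coconePointUniqueUpToIso h₂).hom :=
      h₁.hom_ext fun j ↦ (((sectionsFunctor U.1).map_comp _ _).symm.trans
        (congrArg (sectionsFunctor U.1).map (hd.fac (P.mapCocone c) j))).trans
          (h₁.comp_coconePointUniqueUpToIso_hom h₂ j).symm
    have : IsIso ((sectionsFunctor U.1).map φ) := by
      rw [hh]
      exact (h₁.coconePointUniqueUpToIso h₂).isIso_hom
    exact ConcreteCategory.bijective_of_isIso ((sectionsFunctor U.1).map φ)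
  exact hd.ofPointIso (t := P.mapCocone c) (i := this)

/-- Direct image along an affine morphism preserves epimorphisms of quasi-coherent modules. -/
theorem epi_pushforward_map (f : X ⟶ S) [IsAffineHom f] {M N : X.Modules} [M.IsQuasicoherent]
    [N.IsQuasicoherent] (φ : M ⟶ N) [Epi φ] : Epi ((Scheme.Modules.pushforward f).map φ) :=
  ClSub.Basis.epi_of_surjective_affine _ fun U ↦ sections_surjective_of_epi φ (U.2.preimage f)

end

end Groth.Agent.Lib.QCoh.Sections
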